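import Groth.Agent.IsotrivLib.Ell
import Groth.Agent.ZeroFamLib.Fibre
import Groth.Agent.CurveH0Lib.Conn
import Groth.Agent.CIGenLib.HypSmooth

/-!
# Diagonal conics
-/

set_option autoImplicit false
set_option linter.style.haveILetI false
set_option linter.unusedSectionVars false
universe u

open CategoryTheory CategoryTheory.Limits AlgebraicGeometry MvPolynomial TopologicalSpace GradedCechLib

noncomputable section

namespace EdConicLib

attribute [local instance] VeryAmpleLib.bcOver

variable {K : Type u} [Field K]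

/-- The diagonal form of degree two. -/
def diag (e : Fin 3 → K) : LefPen.Form 2 K 2 :=
  ⟨∑ l, C (e l) * X l ^ 2, (MvPolynomial.mem_homogeneousSubmodule _ _).2
    (IsHomogeneous.sum _ _ _ fun l _ => by simpa using (isHomogeneous_C _ (e l)).mul (isHomogeneous_X_pow l 2))⟩

theorem subst_diag (e : Fin 3 → K) (j : Fin 3) :
    GenusZeroLib.subst 2 K j (diag e).1 =
      C (e j) + C (e (j.succAbove 0)) * X 0 ^ 2 + C (e (j.succAbove 1)) * X 1 ^ 2 := by
  simp only [GenusZeroLib.subst, diag, Fin.sum_univ_succAbove _ j, Fin.sum_univ_two]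
  simp only [map_add, map_mul, map_pow, eval₂Hom_X', eval₂Hom_C, Fin.insertNth_apply_same, Fin.insertNth_apply_succAbove]
  ring

theorem smooth_diag (h2 : (2 : K) ≠ 0) (e : Fin 3 → K) (he : ∀ i, e i ≠ 0) :
    Smooth ((LefPen.hypIdeal (diag e)).subschemeι ≫ CohB1.ProjSpace.toSpec 2 K) := by
  rw [CIGen.smooth_hyp_iff]
  intro j
  rw [subst_diag]
  set a := e (j.succAbove 0)
  set b := e (j.succAbove 1)
  set f : MvPolynomial (Fin 2) K := C (e j) + C a * X 0 ^ 2 + C b * X 1 ^ 2 with hf
  refine CIGen.smooth_of_jacIdeal_eq_top f ((Ideal.eq_top_iff_one _).2 ?_)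
  have hd0 : pderiv 0 f = C a * (C 2 * X 0) := by simp [hf, pderiv_X, Pi.single_apply, map_ofNat, pderiv_pow]
  have hd1 : pderiv 1 f = C b * (C 2 * X 1) := by simp [hf, pderiv_X, Pi.single_apply, map_ofNat, pderiv_pow]
  have h0 : f ∈ CIGen.jacIdeal f := Ideal.mem_sup_left (Ideal.subset_span rfl)
  have h1 : ∀ l, pderiv l f ∈ CIGen.jacIdeal f := fun l => Ideal.mem_sup_right (Ideal.subset_span ⟨l, rfl⟩)
  have hu : C (2 : K)⁻¹ * C 2 = (1 : MvPolynomial (Fin 2) K) := by rw [← C_mul, inv_mul_cancel₀ h2, C_1]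
  have hv : C (e j)⁻¹ * C (e j) = (1 : MvPolynomial (Fin 2) K) := by rw [← C_mul, inv_mul_cancel₀ (he j), C_1]
  have : (1 : MvPolynomial (Fin 2) K) =
      C (e j)⁻¹ * (f - (X 0 * C (2 : K)⁻¹) * pderiv 0 f - (X 1 * C (2 : K)⁻¹) * pderiv 1 f) := by
    rw [hd0, hd1, hf]
    linear_combination (-1 : MvPolynomial (Fin 2) K) * hv +
      C (e j)⁻¹ * (C a * X 0 ^ 2 + C b * X 1 ^ 2) * hu
  rw [this]
  exact Ideal.mul_mem_left _ _ (sub_mem (sub_mem h0 (Ideal.mul_mem_left _ _ (h1 0))) (Ideal.mul_mem_left _ _ (h1 1)))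

theorem dim_le_one {d : ℕ} {G : LefPen.Form 2 K d} (hG : GenusZeroLib.subst 2 K 2 G.1 ≠ 0) :
    topologicalKrullDim ↥((LefPen.hypIdeal G).subscheme) ≤ 1 := by
  classical
  let P := CohB1.ProjSpace 2 K
  let I := LefPen.hypIdeal G
  haveI : IsIntegral P := GenusZeroLib.isIntegral_projSpace K 2
  let ι := I.subschemeι
  have hcl : IsClosed (Set.range ι.base) := ι.isClosedEmbedding.isClosed_range
  have hd : topologicalKrullDim ↥(Set.range ι.base) = topologicalKrullDim ↥I.subscheme :=
    (IsHomeomorph.topologicalKrullDim_eq _ ι.isEmbedding.toHomeomorph.isHomeomorph).symm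
  have hη : genericPoint P ∉ Set.range ι.base := by
    intro hmem
    haveI : Nonempty (CohB1.ProjSpace 2 K) := ⟨genericPoint P⟩
    let U : P.affineOpens := ⟨LefPen.chart 2 K 2, CIGen.chart_affine 2⟩
    have hne : (U.1 : Set P).Nonempty := by
      by_contra hemp
      rw [Set.not_nonempty_iff_eq_empty] at hemp
      haveI : Subsingleton Γ(P, QCohLib.stdOpen 2 K 2) := by
        have : QCohLib.stdOpen 2 K 2 = ⊥ := TopologicalSpace.Opens.ext hemp
        rw [this]
        exact CommRingCat.subsingleton_of_isTerminal P.sheaf.isTerminalOfEmpty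
      have hb : Function.Injective ((toSec 2 K 2).comp (GenusZeroLib.chartPoly 2 K 2)) :=
        ((toSec_bijective 2 K 2).comp (GenusZeroLib.chartPoly_bijective 2 K 2)).1
      exact zero_ne_one (hb (Subsingleton.elim ((toSec 2 K 2).comp (GenusZeroLib.chartPoly 2 K 2) 0) _))
    have hηU : genericPoint P ∈ U.1 := (genericPoint_spec P).mem_open_set_iff U.1.2 |>.2 (by simpa using hne)
    have hs : genericPoint P ∈ (I.support : Set P) := by
      rw [← Scheme.IdealSheafData.range_subschemeι]; exact hmem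
    rw [SetLike.mem_coe, Scheme.IdealSheafData.mem_support_iff_of_mem (U := U) hηU, Scheme.mem_zeroLocus_iff] at hs
    let t : Γ(P, U.1) := GradedCechLib.deh 2 K 2 G.1
    have htI : t ∈ I.ideal U := by
      show t ∈ (LefPen.hypIdeal G).ideal U
      rw [CIGen.hypIdeal_chart]
      exact Ideal.subset_span rfl
    have hb := hs t htI
    have ht0 : t = 0 := by
      rw [← basicOpen_eq_bot_iff]
      ext z
      simp only [TopologicalSpace.Opens.coe_bot, Set.mem_empty_iff_false, iff_false]
      exact fun hz => hb ((genericPoint_spec P).mem_open_set_iff (P.basicOpen t).2 |>.2 ⟨z, trivial, hz⟩)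
    refine hG (((toSec_bijective 2 K 2).comp (GenusZeroLib.chartPoly_bijective 2 K 2)).1 ?_)
    simp only [Function.comp_apply, map_zero]
    refine Eq.trans ?_ ht0
    exact congrArg (toSec 2 K 2) (RingHom.congr_fun (IsotrivLib.chartPoly_subst 2) G.1)
  have h2 : topologicalKrullDim P = (2 : ℕ) := GenusZeroLib.dim_projSpace K 2
  have hU : topologicalKrullDim ↥(Set.univ : Set P) = (2 : ℕ) :=
    (IsHomeomorph.topologicalKrullDim_eq _ (Homeomorph.Set.univ ↥P).isHomeomorph).trans h2
  have hlt := HLVTLib.Conn.dim_lt (IrreducibleSpace.isIrreducible_univ P) hcl (Set.subset_univ _)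
    (fun h => hη (h ▸ trivial)) (by rw [hU]; exact WithBot.coe_lt_coe.2 (ENat.coe_lt_top 2))
  rw [hd, hU] at hlt
  exact IsotrivLib.le_one_of_lt_two hlt

theorem diag_ne_zero {e : Fin 3 → K} (he : ∀ i, e i ≠ 0) : GenusZeroLib.subst 2 K 2 (diag e).1 ≠ 0 := fun h => by
  rw [subst_diag] at h
  have := congrArg (MvPolynomial.eval (0 : Fin 2 → K)) h
  simp at this
  exact he 2 this

/-- A nondegenerate diagonal conic is geometrically integral. -/
theorem geometricallyIntegral_diag (h2 : (2 : K) ≠ 0) (e : Fin 3 → K) (he : ∀ i, e i ≠ 0) :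
    GeometricallyIntegral ((LefPen.hypIdeal (diag e)).subschemeι ≫ CohB1.ProjSpace.toSpec 2 K) := by
  let G := diag e
  have hG : G ≠ 0 := fun h => diag_ne_zero he (by rw [show (diag e).1 = 0 from congrArg Subtype.val h]; exact map_zero _)
  let V := (LefPen.hypIdeal G).subscheme
  let f : V ⟶ Spec (CommRingCat.of K) := (LefPen.hypIdeal G).subschemeι ≫ CohB1.ProjSpace.toSpec 2 K
  letI : V.Over (Spec (CommRingCat.of K)) := ⟨f⟩
  haveI : Smooth f := smooth_diag h2 e he
  haveI : IsProper (CohB1.ProjSpace.toSpec 2 K) := ProjDegLib.toSpec_isProper K 2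
  haveI : IsProper f := MorphismProperty.comp_mem _ _ _ inferInstance inferInstance
  haveI : IsProper (V ↘ Spec (CommRingCat.of K)) := ‹IsProper f›
  haveI : Smooth (V ↘ Spec (CommRingCat.of K)) := ‹Smooth f›
  obtain ⟨h0, -⟩ := PlaneCurveLib.finrank_HH_plane G hG (by norm_num) rfl
  haveI := PlaneCurveLib.connectedSpace_plane G hG (by norm_num) rfl
  haveI := CurvLib.isNoetherian K (X := V)
  haveI : ∀ z : V, IsDomain (V.presheaf.stalk z) := fun z =>
    haveI := CurveVBLib.regular_stalk (k := K) z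
    CommAlgDim.isDomain_of_isRegularLocalRing _
  haveI : IsIntegral V := CurveVBLib.isIntegral_of_connected
  haveI : GeometricallyConnected (V ↘ Spec (CommRingCat.of K)) := CurveH0Lib.geometricallyConnected_of_h0 (k := K) h0
  exact FibVALib.geometricallyIntegral_of_geometricallyConnected (V ↘ Spec (CommRingCat.of K))

/-- A nondegenerate diagonal conic is a curve of genus zero; it has at most dimension one. -/
theorem isCurveOfGenus_diag (h2 : (2 : K) ≠ 0) (e : Fin 3 → K) (he : ∀ i, e i ≠ 0)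
    (hdim1 : 1 ≤ topologicalKrullDim ↥((LefPen.hypIdeal (diag e)).subscheme)) :
    ModFun.IsCurveOfGenus 0 ((LefPen.hypIdeal (diag e)).subschemeι ≫ CohB1.ProjSpace.toSpec 2 K) := by
  let G := diag e
  have hG : G ≠ 0 := fun h => diag_ne_zero he (by rw [show (diag e).1 = 0 from congrArg Subtype.val h]; exact map_zero _)
  let V := (LefPen.hypIdeal G).subscheme
  let f : V ⟶ Spec (CommRingCat.of K) := (LefPen.hypIdeal G).subschemeι ≫ CohB1.ProjSpace.toSpec 2 K
  letI : V.Over (Spec (CommRingCat.of K)) := ⟨f⟩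
  haveI : Smooth f := smooth_diag h2 e he
  haveI : IsProper (CohB1.ProjSpace.toSpec 2 K) := ProjDegLib.toSpec_isProper K 2
  haveI : IsProper f := MorphismProperty.comp_mem _ _ _ inferInstance inferInstance
  haveI : IsProper (V ↘ Spec (CommRingCat.of K)) := ‹IsProper f›
  haveI : Smooth (V ↘ Spec (CommRingCat.of K)) := ‹Smooth f›
  obtain ⟨h0, h1⟩ := PlaneCurveLib.finrank_HH_plane G hG (by norm_num) rfl
  haveI := PlaneCurveLib.connectedSpace_plane G hG (by norm_num) rfl
  haveI := CurvLib.isNoetherian K (X := V)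
  haveI : ∀ z : V, IsDomain (V.presheaf.stalk z) := fun z =>
    haveI := CurveVBLib.regular_stalk (k := K) z
    CommAlgDim.isDomain_of_isRegularLocalRing _
  haveI : IsIntegral V := CurveVBLib.isIntegral_of_connected
  haveI : GeometricallyConnected (V ↘ Spec (CommRingCat.of K)) := CurveH0Lib.geometricallyConnected_of_h0 (k := K) h0
  haveI : GeometricallyIntegral (V ↘ Spec (CommRingCat.of K)) :=
    FibVALib.geometricallyIntegral_of_geometricallyConnected _
  have hdim : topologicalKrullDim V = 1 := le_antisymm (dim_le_one (diag_ne_zero he)) hdim1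
  refine ZeroFamLib.isCurveOfGenus_of_fibres f fun Ω _ _ x => ?_
  obtain ⟨ρ, rfl⟩ := Spec.map_surjective x
  letI : Algebra K Ω := ρ.hom.toAlgebra
  refine ⟨?_, ?_, ?_⟩
  · exact VeryAmpleLib.isIntegral_bc K V Ω
  · haveI := VeryAmpleLib.isIntegral_bc K V Ω
    exact (VeryAmpleLib.dim_bc K V Ω).trans hdim
  · refine (VeryAmpleLib.genus_bc K V Ω).trans ?_
    rw [Curv2.genus]
    exact h1

end EdConicLib
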