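import Groth.Agent.GenusZeroLib.Embed

/-!
# Closed immersions of a curve of genus zero, seen over a smaller field
-/

set_option autoImplicit false
set_option linter.style.haveILetI false
universe u

open CategoryTheory CategoryTheory.Limits AlgebraicGeometry TopologicalSpace Opposite
open HomogeneousLocalization AmpleLib
open TwistLib (genSet)
open AmpleThLib
open GenusZeroLib (kmod e0k ρ)

noncomputable section

namespace EdConicLib

variable (K L : Type u) [Field K] [Field L] [Algebra K L] {X : Scheme.{u}} [X.Over (Spec (CommRingCat.of L))]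
  [IsProper (X ↘ Spec (CommRingCat.of L))] [IsIntegral X] (hdim : topologicalKrullDim X = 1)
  (h0 : Module.finrank L (Coh.HH X (Coh.structureModule X) 0) = 1)
  (h1 : Subsingleton (Coh.HH X (Coh.structureModule X) 1))
  {M : X.Modules} (hM : PicF.IsInvertible M) {d : ℕ} (hd : 0 < d) (hdeg : Curv2.deg L X M 1 = d)

include hdim h0 h1 hM hd hdeg in
/-- A basis of sections gives a morphism to projective space over the subfield, an embedding after extending it. -/
theorem exists_embed (b : letI := kmod L M; Module.Basis (Fin (d + 1)) L Γ(M, ⊤)) :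
    letI := kmod L M
    ∃ (s : X ⟶ Proj (CohB1.polyGrading d K))
      (hs : s ≫ baseA (CohB1.polyGrading d K) =
        (X ↘ Spec (CommRingCat.of L)) ≫ Spec.map (CommRingCat.ofHom (algebraMap K L))),
      IsClosedImmersion (pullback.lift s (X ↘ Spec (CommRingCat.of L)) hs) ∧
      (∀ j, s ⁻¹ᵁ Proj.basicOpen (CohB1.polyGrading d K) (MvPolynomial.X j) = genSet hM (b j)) ∧
      ∀ j l, (show Γ(X, s ⁻¹ᵁ Proj.basicOpen (CohB1.polyGrading d K) (MvPolynomial.X j)) from
          s.app _ (Proj.awayToSection (CohB1.polyGrading d K) (MvPolynomial.X j)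
            (TwistLib.frac (CohB1.polyGrading d K) (MvPolynomial.isHomogeneous_X K j)
              (MvPolynomial.isHomogeneous_X K l)))) •
        res M (le_top : s ⁻¹ᵁ Proj.basicOpen (CohB1.polyGrading d K) (MvPolynomial.X j) ≤ ⊤) (b j) =
          res M le_top (b l) := by
  classical
  letI := kmod L M
  let v : Fin (d + 1) → Γ(M, ⊤) := fun j => b j
  have hv : ∀ j, v j ≠ 0 := fun j => b.ne_zero j
  have hspan : ∀ t : Γ(M, ⊤), t = ∑ j, ρ L (X := X) (b.repr t j) • v j := fun t =>
    (b.sum_repr t).symm.trans (Finset.sum_congr rfl fun j _ => by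
      show ρ L (X := X) (b.repr t j) • b j = _
      rfl)
  choose t₀ ht₀ using fun j => GenusZeroLib.exists_genAt_zeros L hdim h1 hM (hv j)
  have hcov : ∀ x : X, ∃ j, x ∈ genSet hM (v j) := by
    intro x
    by_contra hx
    push Not at hx
    have hgen := ht₀ 0 x (hx 0)
    obtain ⟨U, e, hxU, he⟩ := TwistLib.exists_genOn hM x
    let g := M.presheaf.germ U x hxU e
    have hg : Function.Bijective fun c : X.presheaf.stalk x => c • g := he.genAt hxU
    choose c hc using fun j => hg.2 (M.presheaf.germ ⊤ x trivial (v j))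
    have hcm : ∀ j, c j ∈ IsLocalRing.maximalIdeal (X.presheaf.stalk x) := fun j =>
      (IsLocalRing.mem_maximalIdeal _).mpr fun hu => hx j (by
        change Function.Bijective fun r : X.presheaf.stalk x => r • M.presheaf.germ ⊤ x trivial (v j)
        rw [← hc j]
        simp only [smul_smul]
        exact hg.comp hu.unit.mulRight.bijective)
    obtain ⟨a, ha, ha'⟩ : ∃ a ∈ IsLocalRing.maximalIdeal (X.presheaf.stalk x),
        a • g = M.presheaf.germ ⊤ x trivial (t₀ 0) := by
      refine ⟨∑ j, X.presheaf.germ ⊤ x trivial (ρ L (b.repr (t₀ 0) j)) * c j,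
        Ideal.sum_mem _ fun j _ => Ideal.mul_mem_left _ _ (hcm j), ?_⟩
      conv_rhs => rw [hspan (t₀ 0)]
      rw [map_sum, Finset.sum_smul]
      refine Finset.sum_congr rfl fun j _ => ?_
      rw [germ_smul, ← hc j, smul_smul]
    have hu : IsUnit a := by
      obtain ⟨i, hi⟩ := hgen.2 g
      dsimp only at hi
      rw [← ha', smul_smul] at hi
      exact IsUnit.of_mul_eq_one_right _ (hg.1 (hi.trans (one_smul _ g).symm))
    exact (IsLocalRing.mem_maximalIdeal _).mp ha hu
  obtain ⟨s, hs, hpre, hcoef, -⟩ :=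
    GenusZeroLib.exists_toPA_iso ((X ↘ Spec (CommRingCat.of L)) ≫ Spec.map (CommRingCat.ofHom (algebraMap K L))) hM v hcov
  refine ⟨s, hs, ?_, hpre, hcoef⟩
  let p := baseA (CohB1.polyGrading d K)
  let σ := Spec.map (CommRingCat.ofHom (algebraMap K L))
  let r := pullback.lift s (X ↘ Spec (CommRingCat.of L)) hs
  let pr₁ := pullback.fst p σ
  let pr₂ := pullback.snd p σ
  have hr₁ : r ≫ pr₁ = s := pullback.lift_fst _ _ _
  have hr₂ : r ≫ pr₂ = X ↘ Spec (CommRingCat.of L) := pullback.lift_snd _ _ _
  haveI : IsSeparated p := by simp only [p, baseA]; infer_instance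
  haveI : IsSeparated pr₂ := MorphismProperty.pullback_snd _ _ inferInstance
  haveI : IsProper (r ≫ pr₂) := by rw [hr₂]; infer_instance
  haveI : IsProper r := IsProper.of_comp r pr₂
  haveI : IsAffineHom pr₁ := MorphismProperty.pullback_fst _ _ inferInstance
  have hA : CohB1.IsAmple M := SerreVanLib.isAmple_of_deg_pos (k := L) hdim hM (by omega)
  haveI : IsImmersion r := by
    refine isImmersion_of_local r
      (fun j => pr₁ ⁻¹ᵁ Proj.basicOpen (CohB1.polyGrading d K) (MvPolynomial.X j)) (fun x => ?_) (fun j => ?_)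
    · obtain ⟨j, hx⟩ := hcov x
      refine ⟨j, ?_⟩
      rw [← hpre j, ← hr₁] at hx
      exact hx
    · let D := Proj.basicOpen (CohB1.polyGrading d K) (MvPolynomial.X j)
      let W := pr₁ ⁻¹ᵁ D
      have hW : r ⁻¹ᵁ W = genSet hM (v j) := by rw [← hpre j, ← hr₁]; rfl
      haveI : IsAffine (r ⁻¹ᵁ W).toScheme :=
        hW.symm ▸ CurveAmpLib.isAffineOpen_genSet (X ↘ Spec (CommRingCat.of L)) hM hA (v j)
      haveI : IsAffine W.toScheme :=
        (Proj.isAffineOpen_basicOpen _ _ (MvPolynomial.isHomogeneous_X K j) one_pos).preimage pr₁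
      refine IsClosedImmersion.of_surjective_of_isAffine _ ?_
      rw [Scheme.Hom.appTop, morphismRestrict_app']
      refine surjective_appLE_congr r W.ι_image_top.symm
        (hW.symm.trans (Scheme.Opens.ι_image_top _).symm) hW.ge _ ?_
      intro a
      suffices h : a ∈ (r.appLE W _ hW.ge).hom.range from h
      let S := (r.appLE W (genSet hM (v j)) hW.ge).hom.range
      change a ∈ S
      have hS0 : ∀ c : L, X.presheaf.map (homOfLE (le_top : genSet hM (v j) ≤ ⊤)).op (ρ L c) ∈ S := fun c => by
        refine ⟨pr₂.appLE ⊤ W le_top ((Scheme.ΓSpecIso (CommRingCat.of L)).inv c), ?_⟩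
        rw [← CommRingCat.comp_apply, Scheme.Hom.appLE_comp_appLE]
        simp only [hr₂]
        rfl
      rw [GenusZeroLib.closure_eq_top L hdim h0 h1 hM hd hdeg (hv j) (ht₀ j) S hS0 fun t => ?_]
      · exact Subring.mem_top a
      · have hl : ∀ l, ∃ c ∈ S, c • res M (le_top : genSet hM (v j) ≤ ⊤) (v j) = res M le_top (v l) := by
          intro l
          let F : Γ(Proj (CohB1.polyGrading d K), D) := Proj.awayToSection (CohB1.polyGrading d K) (MvPolynomial.X j)
            (TwistLib.frac (CohB1.polyGrading d K) (MvPolynomial.isHomogeneous_X K j)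
              (MvPolynomial.isHomogeneous_X K l))
          refine ⟨_, ⟨pr₁.appLE D W le_rfl F, rfl⟩, ?_⟩
          have h1 := congrArg (res _ (hpre j).ge) (hcoef j l)
          rw [res_smul, res_res, res_res] at h1
          refine Eq.trans ?_ h1
          congr 1
          rw [← CommRingCat.comp_apply, Scheme.Hom.appLE_comp_appLE]
          simp only [hr₁]
          rfl
        choose c hcS hc using hl
        refine ⟨∑ l, X.presheaf.map (homOfLE (le_top : genSet hM (v j) ≤ ⊤)).op (ρ L (b.repr t l)) * c l,
          sum_mem fun l _ => S.mul_mem (hS0 _) (hcS l), ?_⟩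
        conv_rhs => rw [hspan t]
        rw [Finset.sum_smul]
        refine Eq.trans ?_ (map_sum (M.presheaf.map (homOfLE (le_top : genSet hM (v j) ≤ ⊤)).op).hom _ _).symm
        refine Finset.sum_congr rfl fun l _ => ?_
        refine Eq.trans ?_ (res_smul M le_top (ρ L (b.repr t l)) (v l)).symm
        rw [mul_smul, hc l]
  exact IsClosedImmersion.of_isPreimmersion r r.isClosedMap.isClosed_range

end EdConicLib
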