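import Groth.Agent.EdConicLib.Relation
import Groth.Agent.EdConicLib.Embed
import Groth.Agent.EdConicLib.Conic
import Groth.Agent.CurveDualLib.DualField
import Groth.Agent.RelDualLib.Bundle

/-!
# Curves of genus zero are defined over the field of the coefficients of a conic
-/

set_option autoImplicit false
set_option linter.style.haveILetI false
set_option linter.unusedSectionVars false
set_option maxHeartbeats 1000000
universe u

open CategoryTheory CategoryTheory.Limits AlgebraicGeometry TopologicalSpace MvPolynomial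
open GenusZeroLib (kmod e0k ρ)
open TwistLib (genSet genSet_genOn)
open GradedCechLib (deh deh_C deh_X_self cstOn)

noncomputable section

namespace EdConicLib

attribute [local instance] VeryAmpleLib.bcOver

variable {L : Type u} [Field L]

/-- What is used of a curve of genus zero over a field. -/
theorem curve_data {X : Scheme.{u}} [X.Over (Spec (CommRingCat.of L))]
    (hf : ModFun.IsCurveOfGenus 0 (X ↘ Spec (CommRingCat.of L))) :
    ∃ (_ : IsProper (X ↘ Spec (CommRingCat.of L))) (_ : Smooth (X ↘ Spec (CommRingCat.of L))) (_ : IsIntegral X),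
      topologicalKrullDim X = 1 ∧ Module.finrank L (Coh.HH X (Coh.structureModule X) 0) = 1 ∧
        Curv2.genus L X = 0 := by
  obtain ⟨hsm, hpr, hgi, hfib⟩ := hf
  haveI := hsm
  haveI := hpr
  haveI := hgi
  haveI hc := Groth.Agent.WeilRes.geometricallyConnected_of_geometricallyIrreducible (X ↘ Spec (CommRingCat.of L))
  haveI := FibVALib.geometricallyIntegral_of_geometricallyConnected (X ↘ Spec (CommRingCat.of L))
  haveI hint : IsIntegral X := GeometricallyIntegral.isIntegral_of_subsingleton (X ↘ Spec (CommRingCat.of L))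
  let Ω := AlgebraicClosure L
  obtain ⟨hd, hg⟩ := hfib Ω (Spec.map (CommRingCat.ofHom (algebraMap L Ω))) (Curv2.bc L X Ω) _ _
    (VeryAmpleLib.isPullback_bc L X Ω)
  haveI := VeryAmpleLib.isIntegral_bc L X Ω
  haveI := VeryAmpleLib.isProper_bc L X Ω
  refine ⟨hpr, hsm, hint, (VeryAmpleLib.dim_bc L X Ω).symm.trans hd, ?_, (VeryAmpleLib.genus_bc L X Ω).symm.trans hg⟩
  rw [← VeryAmpleLib.h0_bc L X Ω]
  exact RRVanLib.finrank_h0_structure

/-- A curve of genus zero carries a module of degree two. -/
theorem exists_deg_two {X : Scheme.{u}} [X.Over (Spec (CommRingCat.of L))]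
    [IsProper (X ↘ Spec (CommRingCat.of L))] [Smooth (X ↘ Spec (CommRingCat.of L))]
    [GeometricallyConnected (X ↘ Spec (CommRingCat.of L))] [IsIntegral X]
    (hdim : topologicalKrullDim X = 1) (hg : Curv2.genus L X = 0) :
    ∃ M : X.Modules, PicF.IsInvertible M ∧ Curv2.deg L X M 1 = 2 := by
  have hΩ := CurveDualLib.omega_invertible_field L X hdim
  have hM := MiscFlat6.dual_isInvertible hΩ
  refine ⟨_, hM, ?_⟩
  obtain ⟨e⟩ := RelDualLib.isInverseOf_dual hΩ
  have h := GenusZeroLib.deg_tensor (k := L) hdim hM hΩ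
  rw [CurvLib.deg_congr (k := L) e 1, CurveDualLib.deg_omega L X hdim, hg] at h
  have h0 : Curv2.deg L X (Coh.structureModule X) 1 = 0 := by simp [Curv2.deg]
  omega

/-- The pullback of a constant of a chart. -/
theorem app_cstOn {K : Type u} [Field K] [Algebra K L] {X : Scheme.{u}} [X.Over (Spec (CommRingCat.of L))] {n : ℕ}
    (s : X ⟶ CohB1.ProjSpace n K)
    (hs : s ≫ CohB1.ProjSpace.toSpec n K =
      (X ↘ Spec (CommRingCat.of L)) ≫ Spec.map (CommRingCat.ofHom (algebraMap K L)))
    (U : (CohB1.ProjSpace n K).Opens) (c : K) :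
    s.app U (cstOn n K U c) = X.presheaf.map (homOfLE (le_top : s ⁻¹ᵁ U ≤ ⊤)).op (ρ L (algebraMap K L c)) := by
  refine (ConcreteCategory.congr_hom (s.naturality (homOfLE (le_top : U ≤ ⊤)).op) _).trans ?_
  refine congrArg (X.presheaf.map (homOfLE (le_top : s ⁻¹ᵁ U ≤ ⊤)).op) ?_
  show (s ≫ CohB1.ProjSpace.toSpec n K).appTop ((Scheme.ΓSpecIso (CommRingCat.of K)).inv c) =
    (X ↘ Spec (CommRingCat.of L)).appTop ((Scheme.ΓSpecIso (CommRingCat.of L)).inv (algebraMap K L c))
  rw [hs, Scheme.Hom.comp_appTop]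
  exact congrArg (X ↘ Spec (CommRingCat.of L)).appTop
    (ConcreteCategory.congr_hom (Scheme.ΓSpecIso_inv_naturality (CommRingCat.ofHom (algebraMap K L))) c).symm

/-- Descent of a curve of genus zero to any field containing the ratios of the coefficients of its conic. -/
theorem exists_descent (h2 : (2 : L) ≠ 0) {X : Scheme.{u}} [X.Over (Spec (CommRingCat.of L))]
    (hf : ModFun.IsCurveOfGenus 0 (X ↘ Spec (CommRingCat.of L))) :
    ∃ a b : L, ∀ (K : Type u) [Field K] [Algebra K L],
      a ∈ Set.range (algebraMap K L) → b ∈ Set.range (algebraMap K L) →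
      ∃ (V : Scheme.{u}) (g : V ⟶ Spec (CommRingCat.of K)), ModFun.IsCurveOfGenus 0 g ∧
        ∃ top : X ⟶ V, IsPullback top (X ↘ Spec (CommRingCat.of L)) g
          (Spec.map (CommRingCat.ofHom (algebraMap K L))) := by
  classical
  obtain ⟨_, _, _, hdim, h0, hg⟩ := curve_data hf
  haveI := hf.2.2.1
  haveI hc := Groth.Agent.WeilRes.geometricallyConnected_of_geometricallyIrreducible (X ↘ Spec (CommRingCat.of L))
  obtain ⟨M, hM, hdeg⟩ := exists_deg_two hdim hg
  haveI : Module.Finite L (Coh.HH X (Coh.structureModule X) 1) :=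
    CurvLib.finite_HH (CurvLib.isCoh_of_isInvertible CurvLib.isInvertible_structureModule) 1
  have h1 : Subsingleton (Coh.HH X (Coh.structureModule X) 1) := (Module.finrank_zero_iff (R := L)).mp hg
  letI := kmod L M
  letI := kmod L (CohB1.tensorMod M M)
  obtain ⟨w, d, hd, hrel⟩ := exists_conic_basis L hdim h0 h2 h1 hM hdeg
  refine ⟨d 0 / d 2, d 1 / d 2, fun K _ _ ha hb => ?_⟩
  obtain ⟨a, ha⟩ := ha
  obtain ⟨b, hb⟩ := hb
  let e : Fin 3 → K := ![a, b, 1]
  have he : ∀ l, algebraMap K L (e l) = d l / d 2 := by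
    intro l
    fin_cases l <;> simp [e, ha, hb, div_self (hd 2)]
  have he0 : ∀ l, e l ≠ 0 := fun l h => by
    have := he l
    rw [h, map_zero] at this
    exact div_ne_zero (hd l) (hd 2) this.symm
  have h2K : (2 : K) ≠ 0 := fun h => h2 (by rw [← map_ofNat (algebraMap K L) 2, h, map_zero])
  obtain ⟨s, hs, hcl, hpre, hcoef⟩ :=
    exists_embed K L hdim h0 h1 hM (d := 2) two_pos (by exact_mod_cast hdeg) w
  let G := diag e
  haveI : QuasiCompact s := by
    haveI : IsProper (CohB1.ProjSpace.toSpec 2 K) := ProjDegLib.toSpec_isProper K 2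
    haveI : QuasiCompact (s ≫ CohB1.ProjSpace.toSpec 2 K) := by
      rw [show s ≫ CohB1.ProjSpace.toSpec 2 K = _ from hs]; infer_instance
    exact QuasiCompact.of_comp s (CohB1.ProjSpace.toSpec 2 K)
  -- the image lies on the conic
  have hker : LefPen.hypIdeal G ≤ s.ker := by
    refine Scheme.IdealSheafData.le_of_iSup_eq_top (fun j => ⟨LefPen.chart 2 K j, CIGen.chart_affine j⟩)
      (QCohLib.iSup_stdOpen 2 K) fun j => ?_
    rw [CIGen.hypIdeal_chart, Scheme.Hom.ker_apply]
    refine (Ideal.span_singleton_le_iff_mem _).mpr (RingHom.mem_ker.mpr ?_)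
    let D : (CohB1.ProjSpace 2 K).Opens := Proj.basicOpen (CohB1.polyGrading 2 K) (MvPolynomial.X j)
    let φ : MvPolynomial (Fin 3) K →+* Γ(X, s ⁻¹ᵁ D) := (s.app D).hom.comp (deh 2 K j)
    let R : Γ(X, s ⁻¹ᵁ D) →+* Γ(X, genSet hM (w j)) := (X.presheaf.map (homOfLE (hpre j).ge).op).hom
    have hR : Function.Injective R := by
      intro x y hxy
      have h := congrArg (X.presheaf.map (homOfLE (hpre j).le).op) hxy
      have key : ∀ z, X.presheaf.map (homOfLE (hpre j).le).op (R z) = z := fun z => by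
        show X.presheaf.map _ (X.presheaf.map _ z) = z
        rw [← CommRingCat.comp_apply, ← Functor.map_comp]
        exact (congrArg (fun g => X.presheaf.map g z) (Subsingleton.elim _ (𝟙 _))).trans
          (ConcreteCategory.congr_hom (X.presheaf.map_id _) z)
      exact (key x).symm.trans (h.trans (key y))
    refine hR ?_
    rw [map_zero]
    show R (φ (diag e).1) = 0
    let f : Fin 3 → Γ(X, genSet hM (w j)) := fun l => R (φ (MvPolynomial.X l))
    have hf' : ∀ l, f l • AmpleLib.res M (le_top : genSet hM (w j) ≤ ⊤) (w j) = AmpleLib.res M le_top (w l) := by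
      intro l
      have h := congrArg (AmpleLib.res _ (hpre j).ge) (hcoef j l)
      rw [AmpleLib.res_smul, AmpleLib.res_res, AmpleLib.res_res] at h
      refine Eq.trans ?_ h
      congr 1
      refine congrArg (fun t => R (s.app D t)) ?_
      show (GradedCechLib.toSec 2 K j) (GradedCechLib.deh₀ 2 K j (MvPolynomial.X l)) = _
      rw [GradedCechLib.deh₀_X]
      rfl
    have hC : ∀ c : K, R (φ (C c)) =
        X.presheaf.map (homOfLE (le_top : genSet hM (w j) ≤ ⊤)).op (ρ L (algebraMap K L c)) := by
      intro c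
      show R (s.app D (deh 2 K j (C c))) = _
      rw [deh_C]
      refine (congrArg R (app_cstOn s hs D c)).trans ?_
      show X.presheaf.map _ (X.presheaf.map _ _) = _
      rw [← CommRingCat.comp_apply, ← Functor.map_comp]
      rfl
    have key := sum_sq_eq_zero L hM (fun i => w i) d hrel j f hf'
    simp only [diag, map_sum, map_mul, map_pow, hC, he, div_eq_mul_inv]
    refine Eq.trans ?_ ((congrArg (X.presheaf.map (homOfLE (le_top : genSet hM (w j) ≤ ⊤)).op
      (ρ L (d 2)⁻¹) * ·) key).trans (mul_zero _))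
    rw [Finset.mul_sum]
    refine Finset.sum_congr rfl fun l _ => ?_
    simp only [f]
    ring
  let ι := (LefPen.hypIdeal G).subschemeι
  let g : (LefPen.hypIdeal G).subscheme ⟶ Spec (CommRingCat.of K) := ι ≫ CohB1.ProjSpace.toSpec 2 K
  let j : X ⟶ (LefPen.hypIdeal G).subscheme :=
    IsClosedImmersion.lift ι s (by rw [Scheme.IdealSheafData.ker_subschemeι]; exact hker)
  have hj : j ≫ ι = s := IsClosedImmersion.lift_fac _ _ _
  letI : ((LefPen.hypIdeal G).subscheme).Over (Spec (CommRingCat.of K)) := ⟨g⟩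
  let V := (LefPen.hypIdeal G).subscheme
  -- into the base change
  let h : X ⟶ Curv2.bc K V L :=
    pullback.lift j (X ↘ Spec (CommRingCat.of L)) (by
      show j ≫ ι ≫ CohB1.ProjSpace.toSpec 2 K = _
      rw [reassoc_of% hj]
      exact hs)
  let m : Curv2.bc K V L ⟶ pullback (AmpleThLib.baseA (CohB1.polyGrading 2 K))
      (Spec.map (CommRingCat.ofHom (algebraMap K L))) :=
    pullback.lift (pullback.fst _ _ ≫ ι) (pullback.snd _ _) (by rw [Category.assoc]; exact pullback.condition)
  have hm : h ≫ m = pullback.lift s (X ↘ Spec (CommRingCat.of L)) hs := by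
    apply pullback.hom_ext
    · simp only [h, m, Category.assoc, pullback.lift_fst]
      rw [pullback.lift_fst_assoc]
      exact hj
    · simp only [h, m, Category.assoc, pullback.lift_snd]
  haveI : Smooth g := smooth_diag h2K e he0
  haveI : IsProper (CohB1.ProjSpace.toSpec 2 K) := ProjDegLib.toSpec_isProper K 2
  haveI : IsProper g := MorphismProperty.comp_mem _ _ _ inferInstance inferInstance
  haveI : IsProper (V ↘ Spec (CommRingCat.of K)) := ‹IsProper g›
  haveI : Smooth (V ↘ Spec (CommRingCat.of K)) := ‹Smooth g›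
  haveI := VeryAmpleLib.isProper_bc K V L
  haveI : IsSeparated m := by
    haveI : IsSeparated (m ≫ pullback.snd _ _) := by
      simp only [m, pullback.lift_snd]
      exact inferInstanceAs (IsSeparated (pullback.snd (V ↘ Spec (CommRingCat.of K)) _))
    exact IsSeparated.of_comp m (pullback.snd _ _)
  haveI : IsClosedImmersion (h ≫ m) := hm ▸ hcl
  haveI : IsClosedImmersion h := IsClosedImmersion.of_comp h m
  haveI : GeometricallyIntegral (V ↘ Spec (CommRingCat.of K)) := geometricallyIntegral_diag h2K e he0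
  haveI : IsIntegral V := GeometricallyIntegral.isIntegral_of_subsingleton (V ↘ Spec (CommRingCat.of K))
  haveI := VeryAmpleLib.isIntegral_bc K V L
  have hle : topologicalKrullDim X ≤ topologicalKrullDim ↥(Curv2.bc K V L) :=
    h.isClosedEmbedding.isInducing.topologicalKrullDim_le
  have hd1 : 1 ≤ topologicalKrullDim ↥V := by
    rw [← VeryAmpleLib.dim_bc K V L, ← hdim]
    exact hle
  have hV := isCurveOfGenus_diag h2K e he0 hd1
  have hdV : topologicalKrullDim ↥(Curv2.bc K V L) = 1 :=
    (VeryAmpleLib.dim_bc K V L).trans (le_antisymm (dim_le_one (diag_ne_zero he0)) hd1)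
  haveI : Surjective h := by
    refine ⟨fun y => ?_⟩
    by_contra hy
    have hlt := HLVTLib.Conn.dim_lt (IrreducibleSpace.isIrreducible_univ ↥(Curv2.bc K V L))
      h.isClosedEmbedding.isClosed_range (Set.subset_univ _) (fun he => hy (he.ge trivial))
      (by rw [IsHomeomorph.topologicalKrullDim_eq _ (Homeomorph.Set.univ _).isHomeomorph, hdV]
          exact WithBot.coe_lt_coe.2 (ENat.coe_lt_top 1))
    rw [IsHomeomorph.topologicalKrullDim_eq _ (Homeomorph.Set.univ _).isHomeomorph, hdV,
      ← IsHomeomorph.topologicalKrullDim_eq _ h.isEmbedding.toHomeomorph.isHomeomorph, hdim] at hlt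
    exact lt_irrefl _ hlt
  haveI : IsIso h := isIso_of_isClosedImmersion_of_surjective h
  refine ⟨V, g, hV, j, ?_⟩
  refine (VeryAmpleLib.isPullback_bc K V L).of_iso (asIso h).symm (Iso.refl _) (Iso.refl _) (Iso.refl _) ?_ ?_ ?_ ?_
  · show Curv2.bcFst K V L ≫ 𝟙 _ = inv h ≫ j
    rw [Category.comp_id, IsIso.eq_inv_comp]
    exact pullback.lift_fst _ _ _
  · show (Curv2.bc K V L ↘ Spec (CommRingCat.of L)) ≫ 𝟙 _ = inv h ≫ (X ↘ Spec (CommRingCat.of L))
    rw [Category.comp_id, IsIso.eq_inv_comp]
    exact pullback.lift_snd _ _ _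
  · simp
    rfl
  · simp

end EdConicLib
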