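import Mathlib.LinearAlgebra.QuadraticForm.Basic
import Mathlib.LinearAlgebra.Matrix.BilinearForm
import Mathlib.LinearAlgebra.Dimension.OrzechProperty

/-!
# A diagonal relation between products
-/

set_option autoImplicit false
universe u v w

open Module

namespace EdConicLib

variable {k : Type u} [Field k] {V : Type v} {W : Type w} [AddCommGroup V] [Module k V] [AddCommGroup W] [Module k W]

/-- Three independent elements with products in a space of dimension five satisfy a diagonal relation in some basis. -/
theorem exists_diag (h2 : (2 : k) ≠ 0) (v : Basis (Fin 3) k V) [Module.Finite k W] (hW : finrank k W ≤ 5)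
    (μ : V →ₗ[k] V →ₗ[k] W) :
    ∃ (w : Basis (Fin 3) k V) (d : Fin 3 → k), d ≠ 0 ∧ ∑ c, d c • μ (w c) (w c) = 0 := by
  classical
  letI : Invertible (2 : k) := invertibleOfNonzero h2
  let A : (Fin 6 → k) →ₗ[k] Matrix (Fin 3) (Fin 3) k :=
    { toFun := fun c => !![c 0, c 3, c 4; c 3, c 1, c 5; c 4, c 5, c 2]
      map_add' := fun a b => by ext i j; fin_cases i <;> fin_cases j <;> simp
      map_smul' := fun r a => by ext i j; fin_cases i <;> fin_cases j <;> simp }
  let Ψ : (Fin 6 → k) →ₗ[k] W := ∑ a, ∑ b, ((Matrix.entryLinearMap k k a b).comp A).smulRight (μ (v a) (v b))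
  obtain ⟨c, hc, hc0⟩ : ∃ c, Ψ c = 0 ∧ c ≠ 0 := by
    by_contra! h
    have hinj : Function.Injective Ψ := LinearMap.ker_eq_bot.mp (LinearMap.ker_eq_bot'.mpr h)
    have := LinearMap.finrank_le_finrank_of_injective hinj
    rw [finrank_pi, Fintype.card_fin] at this
    omega
  let B : LinearMap.BilinForm k (Fin 3 → k) := Matrix.toBilin' (A c)
  have hB : B.IsSymm := LinearMap.BilinForm.isSymm_def.mpr fun x y => by
    simp [B, A, Matrix.toBilin'_apply, Fin.sum_univ_three]
    ring
  obtain ⟨e, he⟩ := LinearMap.BilinForm.exists_orthogonal_basis (B := B) (LinearMap.BilinForm.isSymm_iff.mp hB)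
  let e' : Basis (Fin 3) k (Fin 3 → k) := e.reindex (finCongr (finrank_fin_fun k))
  have he' : ∀ i j, i ≠ j → B (e' i) (e' j) = 0 := fun i j hij => by
    simp only [e', Basis.reindex_apply]
    exact he (fun h => hij ((finCongr _).symm.injective h))
  let p : Fin 3 → Fin 3 → k := fun a i => e'.repr (Pi.single a 1) i
  let w : Fin 3 → V := fun i => ∑ a, p a i • v a
  have hsum : ∀ a, ∑ i, p a i • e' i = Pi.single a 1 := fun a => e'.sum_repr _
  have hspan : ⊤ ≤ Submodule.span k (Set.range w) := by
    rw [← v.span_eq, Submodule.span_le]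
    rintro _ ⟨b, rfl⟩
    have : v b = ∑ i, e' i b • w i := by
      simp only [w, Finset.smul_sum, smul_smul]
      rw [Finset.sum_comm]
      simp only [← Finset.sum_smul]
      rw [Finset.sum_eq_single b (fun a _ hab => ?_) (fun h => absurd (Finset.mem_univ b) h)]
      · have h := congrFun (hsum b) b
        simp only [Finset.sum_apply, Pi.smul_apply, smul_eq_mul, Pi.single_eq_same] at h
        simp only [mul_comm (e' _ b)]
        rw [h, one_smul]
      · have h := congrFun (hsum a) b
        simp only [Finset.sum_apply, Pi.smul_apply, smul_eq_mul, Pi.single_eq_of_ne hab.symm] at h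
        simp only [mul_comm (e' _ b)]
        rw [h, zero_smul]
    rw [this]
    exact Submodule.sum_mem _ fun i _ => Submodule.smul_mem _ _ (Submodule.subset_span ⟨i, rfl⟩)
  let wB : Basis (Fin 3) k V := basisOfTopLeSpanOfCardEqFinrank w hspan
    (by rw [finrank_eq_card_basis v])
  refine ⟨wB, fun i => B (e' i) (e' i), fun hd => hc0 ?_, ?_⟩
  · have hB0 : B = 0 := LinearMap.ext_basis e' e' fun i j => by
      rcases eq_or_ne i j with rfl | hij
      · exact congrFun hd i
      · exact he' i j hij
    have hA : A c = 0 := by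
      simpa [B] using hB0
    funext l
    fin_cases l
    · exact congrFun (congrFun hA 0) 0
    · exact congrFun (congrFun hA 1) 1
    · exact congrFun (congrFun hA 2) 2
    · exact congrFun (congrFun hA 0) 1
    · exact congrFun (congrFun hA 0) 2
    · exact congrFun (congrFun hA 1) 2
  · have hwB : ∀ i, wB i = w i := fun i => by simp [wB]
    have hcoef : ∀ a b, A c a b = ∑ i, p a i * p b i * B (e' i) (e' i) := by
      intro a b
      have h0 : A c a b = B (Pi.single a 1) (Pi.single b 1) := by simp [B, Matrix.toBilin'_single]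
      rw [h0, ← hsum a, ← hsum b]
      simp only [map_sum, LinearMap.sum_apply, map_smul, LinearMap.smul_apply, smul_eq_mul]
      refine Finset.sum_congr rfl fun i _ => ?_
      rw [Finset.sum_eq_single i (fun j _ hji => by simp [he' j i hji, he' i j hji.symm]) (fun h => absurd (Finset.mem_univ i) h)]
      ring
    refine Eq.trans ?_ hc
    simp only [Ψ, LinearMap.sum_apply, LinearMap.smulRight_apply, LinearMap.comp_apply,
      Matrix.entryLinearMap_apply, hcoef, Finset.sum_smul, hwB, w, map_sum, map_smul, LinearMap.smul_apply,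
      Finset.smul_sum, smul_smul]
    refine Eq.trans ?_ Finset.sum_comm
    rw [Finset.sum_comm]
    refine Finset.sum_congr rfl fun a _ => ?_
    rw [Finset.sum_comm]
    refine Finset.sum_congr rfl fun b _ => Finset.sum_congr rfl fun i _ => ?_
    congr 1
    ring

end EdConicLib
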