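import Groth.Agent.EdConicLib.Diag
import Groth.Agent.GenusZeroLib.Embed
import Groth.Agent.GenusZeroLib.Degrees
import Groth.Agent.CurveDualLib.GenusField

/-!
# Sections of degree two on a curve of genus zero satisfy a nondegenerate diagonal relation
-/

set_option autoImplicit false
set_option linter.style.haveILetI false
set_option linter.unusedSectionVars false
universe u

open CategoryTheory CategoryTheory.Limits AlgebraicGeometry TopologicalSpace Opposite
open AmpleLib
open TwistLib (genSet genSet_genOn)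
open GenusZeroLib (kmod e0k ρ)

noncomputable section

namespace EdConicLib

attribute [local instance] CurveDualLib.algFF

variable (k : Type u) [Field k] {X : Scheme.{u}} [X.Over (Spec (CommRingCat.of k))]
  [IsProper (X ↘ Spec (CommRingCat.of k))] [Smooth (X ↘ Spec (CommRingCat.of k))] [IsIntegral X]
  (hdim : topologicalKrullDim X = 1) (h0 : Module.finrank k (Coh.HH X (Coh.structureModule X) 0) = 1)

/-- Products of sections. -/
def mulSec (M : X.Modules) : letI := kmod k M; letI := kmod k (CohB1.tensorMod M M)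
    Γ(M, ⊤) →ₗ[k] Γ(M, ⊤) →ₗ[k] Γ(CohB1.tensorMod M M, ⊤) :=
  letI := kmod k M
  letI := kmod k (CohB1.tensorMod M M)
  LinearMap.mk₂ k (fun s t => shT s t) (fun s s' t => GenusZeroLib.shT_add_left s s' t)
    (fun r s t => GenusZeroLib.shT_smul_left (ρ k r) s t) (fun s t t' => GenusZeroLib.shT_add_right s t t')
    (fun r s t => GenusZeroLib.shT_smul_right (ρ k r) s t)

/-- A diagonal relation on the locus of one section. -/
theorem sum_sq_eq_zero {M : X.Modules} (hM : PicF.IsInvertible M) {n : ℕ} (w : Fin n → Γ(M, ⊤)) (d : Fin n → k)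
    (h : letI := kmod k (CohB1.tensorMod M M)
      ∑ c, d c • (shT (w c) (w c) : Γ(CohB1.tensorMod M M, ⊤)) = 0)
    (j : Fin n) (f : Fin n → Γ(X, genSet hM (w j)))
    (hf : ∀ l, f l • res M (le_top : genSet hM (w j) ≤ ⊤) (w j) = res M le_top (w l)) :
    ∑ l, X.presheaf.map (homOfLE (le_top : genSet hM (w j) ≤ ⊤)).op (ρ k (d l)) * f l * f l = 0 := by
  let V := genSet hM (w j)
  have hg : GenOn M (res M (le_top : V ≤ ⊤) (w j)) := genSet_genOn hM (w j)
  refine ((AmpleThLib.shT_genOn hg hg) V le_rfl).1 ?_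
  dsimp only
  rw [AmpleLib.res_refl, zero_smul, Finset.sum_smul]
  refine Eq.trans ?_ ((congrArg (res (CohB1.tensorMod M M) (le_top : V ≤ ⊤)) h).trans (map_zero _))
  refine Eq.trans ?_ (map_sum ((CohB1.tensorMod M M).presheaf.map (homOfLE (le_top : V ≤ ⊤)).op).hom _ _).symm
  refine Finset.sum_congr rfl fun l _ => ?_
  refine Eq.trans ?_ (AmpleLib.res_smul (CohB1.tensorMod M M) le_top (ρ k (d l)) (shT (w l) (w l))).symm
  rw [AmpleLib.shT_res, ← hf l, AmpleLib.shT_smul, smul_smul, mul_assoc]

include hdim h0 in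
/-- A function with algebraic square is constant. -/
theorem const_of_sq {V : X.Opens}
    (hV : genericPoint X ∈ V) (f : Γ(X, V)) {a b : k} (ha : a ≠ 0)
    (h : X.presheaf.map (homOfLE (le_top : V ≤ ⊤)).op (ρ k a) * f * f +
      X.presheaf.map (homOfLE (le_top : V ≤ ⊤)).op (ρ k b) = 0) :
    ∃ c : k, f = X.presheaf.map (homOfLE (le_top : V ≤ ⊤)).op (ρ k c) := by
  let γ := (X.presheaf.germ V (genericPoint X) hV).hom
  have hγ : ∀ c : k, γ (X.presheaf.map (homOfLE (le_top : V ≤ ⊤)).op (ρ k c)) = algebraMap k X.functionField c :=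
    fun c => TopCat.Presheaf.germ_res_apply X.presheaf _ _ hV _
  have h' := congrArg γ h
  rw [map_add, map_mul, map_mul, hγ, hγ, map_zero] at h'
  have halg : IsAlgebraic k (γ f) := by
    refine ⟨Polynomial.C a * Polynomial.X ^ 2 + Polynomial.C b, fun hp => ha ?_, ?_⟩
    · have := congrArg (fun p : Polynomial k => p.coeff 2) hp
      simpa [Polynomial.coeff_C] using this
    · simp only [map_add, map_mul, map_pow, Polynomial.aeval_C, Polynomial.aeval_X]
      linear_combination h'
  obtain ⟨c, hc⟩ := (CurveDualLib.isFunctionField' (k := k) hdim h0).2 _ halg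
  exact ⟨c, germ_injective_of_isIntegral X (genericPoint X) hV (hc.symm.trans (hγ c).symm)⟩

include hdim h0 in
/-- A basis of the sections of a degree two module with a nondegenerate diagonal relation. -/
theorem exists_conic_basis (h2 : (2 : k) ≠ 0) (h1 : Subsingleton (Coh.HH X (Coh.structureModule X) 1))
    {M : X.Modules} (hM : PicF.IsInvertible M) (hdeg : Curv2.deg k X M 1 = 2) :
    letI := kmod k M; letI := kmod k (CohB1.tensorMod M M)
    ∃ (w : Module.Basis (Fin 3) k Γ(M, ⊤)) (d : Fin 3 → k), (∀ i, d i ≠ 0) ∧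
      ∑ c, d c • (shT (w c) (w c) : Γ(CohB1.tensorMod M M, ⊤)) = 0 := by
  classical
  letI := kmod k M
  letI := kmod k (CohB1.tensorMod M M)
  have hdeg' : Curv2.deg k X M 1 = ((2 : ℕ) : ℤ) := by exact_mod_cast hdeg
  have hfL := GenusZeroLib.finrank_sections k hdim h0 h1 hM hdeg'
  haveI : Module.Finite k Γ(M, ⊤) := Module.finite_of_finrank_pos (hfL ▸ Nat.succ_pos _)
  have hMM := HilbPolyLib.isInvertible_tensor hM hM
  have hd4 : Curv2.deg k X (CohB1.tensorMod M M) 1 = 4 := by
    rw [GenusZeroLib.deg_tensor (k := k) hdim hM hM, hdeg]; norm_num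
  have hfMM : Module.finrank k Γ(CohB1.tensorMod M M, ⊤) = 5 := by
    rw [← (e0k k (CohB1.tensorMod M M)).finrank_eq]
    have := (CurvLib.genus_zero_deg_pos (k := k) hdim h0 (GenusZeroLib.genus_eq_zero k h1) hMM (by omega)).1
    omega
  haveI : Module.Finite k Γ(CohB1.tensorMod M M, ⊤) := Module.finite_of_finrank_pos (by rw [hfMM]; norm_num)
  obtain ⟨w, d, hd, hrel⟩ := exists_diag h2 (Module.finBasisOfFinrankEq k Γ(M, ⊤) hfL) hfMM.le (mulSec k M)
  refine ⟨w, d, fun a ha => ?_, hrel⟩
  -- the locus of a basis vector and the functions on it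
  have hη : ∀ i, genericPoint X ∈ genSet hM (w i) := fun i => GenusZeroLib.genericPoint_mem_genSet hM (w.ne_zero i)
  have key : ∀ b c : Fin 3, a ≠ b → a ≠ c → b ≠ c → d c ≠ 0 → False := by
    intro b c hab hac hbc hdc
    let V := genSet hM (w b)
    choose f hf using fun l => ((genSet_genOn hM (w b)) V le_rfl).2 (res M (le_top : V ≤ ⊤) (w l))
    simp only [AmpleLib.res_refl] at hf
    have h := sum_sq_eq_zero k hM (fun i => w i) d hrel b f hf
    have hfb : f b = 1 := ((genSet_genOn hM (w b)) V le_rfl).1 (by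
      simp only [AmpleLib.res_refl, hf, one_smul])
    have huniv : (Finset.univ : Finset (Fin 3)) = {a, b, c} := by
      have : ∀ a b c : Fin 3, a ≠ b → a ≠ c → b ≠ c → (Finset.univ : Finset (Fin 3)) = {a, b, c} := by decide
      exact this a b c hab hac hbc
    rw [huniv, Finset.sum_insert (by simp [hab, hac]), Finset.sum_insert (by simp [hbc]), Finset.sum_singleton,
      ha, map_zero, map_zero, zero_mul, zero_mul, zero_add, hfb, mul_one, mul_one, add_comm] at h
    obtain ⟨r, hr⟩ := const_of_sq k hdim h0 (hη b) (f c) hdc h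
    have : w c = r • w b := sub_eq_zero.mp (GenusZeroLib.eq_zero_of_res hM (le_top : V ≤ ⊤) ⟨_, hη b⟩ _ (by
      refine (map_sub _ _ _).trans (sub_eq_zero.mpr ?_)
      refine (hf c).symm.trans (Eq.trans ?_ (AmpleLib.res_smul M (le_top : V ≤ ⊤) (ρ k r) (w b)).symm)
      rw [hr]))
    have hh := congrArg (fun v => w.repr v c) this
    simp [hbc.symm] at hh
  obtain ⟨c, hc⟩ : ∃ c, d c ≠ 0 := by
    by_contra! h
    exact hd (funext h)
  have hac : a ≠ c := fun h => hc (h ▸ ha)
  obtain ⟨b, hab, hbc⟩ : ∃ b, a ≠ b ∧ b ≠ c := by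
    have : ∀ a c : Fin 3, a ≠ c → ∃ b, a ≠ b ∧ b ≠ c := by decide
    exact this a c hac
  exact key b c hab hac hbc hc

end EdConicLib
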